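import Cfsg.Agent.Lib.H2.TCHNC.Chk
set_option autoImplicit false
set_option maxRecDepth 100000
set_option linter.all false
namespace H2.TCHNC
open H35.TC
section
variable {G : Type} [Group G] {g : Lt → G} {H : Subgroup G}
/-- the points of the nodes -/
noncomputable def cP (g : Lt → G) (H : Subgroup G) : ℕ → G ⧸ H := cc (fa g) lt P ((1 : G) : G ⧸ H)
theorem dp_x_0_s (hinv : ∀ x, g (inv x) = (g x)⁻¹) (hr : ∀ r ∈ rels, (r.map g).prod = 1) (hH : ∀ r ∈ subs, (r.map g).prod ∈ H)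
    (j u : ℕ) (hu : u < M) (h : dp_x_0 j u = true) : Good (fa g) T MG M (cP g H) Lt.x u := by
  unfold dp_x_0 at h
  rcases brec_true h with h | h
  · exact lF1_good (T := T) (x := Lt.x) (by decide) .x (hole_rel hinv hr (by decide +kernel)) h
  · exact lF_good (T := T) (x := Lt.x) (by decide) [Lt.y, Lt.y, Lt.x, Lt.y, Lt.y, Lt.y, Lt.x, Lt.y, Lt.y, Lt.x, Lt.y, Lt.y, Lt.y, Lt.x, Lt.y, Lt.y, Lt.x, Lt.y, Lt.y, Lt.y] (hole_rel hinv hr (by decide +kernel)) h
theorem snd_x (hinv : ∀ x, g (inv x) = (g x)⁻¹) (hr : ∀ r ∈ rels, (r.map g).prod = 1) (hH : ∀ r ∈ subs, (r.map g).prod ∈ H)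
    (j u : ℕ) (hu : u < M) (h : disp_x j u = true) : Good (fa g) T MG M (cP g H) Lt.x u := by
  unfold disp_x at h
  rcases brec_true h with h | h
  · exact lDef_good (T := T) (x := Lt.x) (by decide) rfl h
  · rcases brec_true h with h | h
    · exact lPar_good (T := T) (x := Lt.x) (x' := Lt.x) (by decide) rfl (inv_rel hinv _ _ rfl) h
    · exact dp_x_0_s hinv hr hH j u hu h
theorem snc_x (hinv : ∀ x, g (inv x) = (g x)⁻¹) (hr : ∀ r ∈ rels, (r.map g).prod = 1) (hH : ∀ r ∈ subs, (r.map g).prod ∈ H)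
    (j u : ℕ) (hu : u < M) (h : chk_x j u = true) : T Lt.x u < A → Good (fa g) T MG M (cP g H) Lt.x u := by
  intro hA
  unfold chk_x at h
  cases hb : Nat.ble A (T_x u) with
  | true => exact absurd (le_of_ble hb) (by show ¬ A ≤ T Lt.x u; omega)
  | false => rw [hb] at h; exact snd_x hinv hr hH j u hu h
theorem dp_y_0_s (hinv : ∀ x, g (inv x) = (g x)⁻¹) (hr : ∀ r ∈ rels, (r.map g).prod = 1) (hH : ∀ r ∈ subs, (r.map g).prod ∈ H)
    (j u : ℕ) (hu : u < M) (h : dp_y_0 j u = true) : Good (fa g) T MG M (cP g H) Lt.y u := by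
  unfold dp_y_0 at h
  rcases brec_true h with h | h
  · exact lF_good (T := T) (x := Lt.y) (by decide) [Lt.y, Lt.x, Lt.y, Lt.x, Lt.y, Lt.y, Lt.y, Lt.x, Lt.y, Lt.x, Lt.y, Lt.y, Lt.y, Lt.x, Lt.y, Lt.x, Lt.y, Lt.y, Lt.y, Lt.x, Lt.y, Lt.x, Lt.y] (hole_rel hinv hr (by decide +kernel)) h
  · exact lF1_good (T := T) (x := Lt.y) (by decide) .yi (hole_rel hinv hr (by decide +kernel)) h
theorem snd_y (hinv : ∀ x, g (inv x) = (g x)⁻¹) (hr : ∀ r ∈ rels, (r.map g).prod = 1) (hH : ∀ r ∈ subs, (r.map g).prod ∈ H)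
    (j u : ℕ) (hu : u < M) (h : disp_y j u = true) : Good (fa g) T MG M (cP g H) Lt.y u := by
  unfold disp_y at h
  rcases brec_true h with h | h
  · exact lDef_good (T := T) (x := Lt.y) (by decide) rfl h
  · rcases brec_true h with h | h
    · exact lPar_good (T := T) (x := Lt.y) (x' := Lt.yi) (by decide) rfl (inv_rel hinv _ _ rfl) h
    · rcases brec_true h with h | h
      · exact lF_good (T := T) (x := Lt.y) (by decide) [Lt.y, Lt.y, Lt.y, Lt.y, Lt.y] (hole_rel hinv hr (by decide +kernel)) h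
      · exact dp_y_0_s hinv hr hH j u hu h
theorem snc_y (hinv : ∀ x, g (inv x) = (g x)⁻¹) (hr : ∀ r ∈ rels, (r.map g).prod = 1) (hH : ∀ r ∈ subs, (r.map g).prod ∈ H)
    (j u : ℕ) (hu : u < M) (h : chk_y j u = true) : T Lt.y u < A → Good (fa g) T MG M (cP g H) Lt.y u := by
  intro hA
  unfold chk_y at h
  cases hb : Nat.ble A (T_y u) with
  | true => exact absurd (le_of_ble hb) (by show ¬ A ≤ T Lt.y u; omega)
  | false => rw [hb] at h; exact snd_y hinv hr hH j u hu h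
theorem dp_yi_0_s (hinv : ∀ x, g (inv x) = (g x)⁻¹) (hr : ∀ r ∈ rels, (r.map g).prod = 1) (hH : ∀ r ∈ subs, (r.map g).prod ∈ H)
    (j u : ℕ) (hu : u < M) (h : dp_yi_0 j u = true) : Good (fa g) T MG M (cP g H) Lt.yi u := by
  unfold dp_yi_0 at h
  rcases brec_true h with h | h
  · exact lF_good (T := T) (x := Lt.yi) (by decide) [Lt.yi, Lt.yi, Lt.yi, Lt.yi, Lt.yi] (hole_rel hinv hr (by decide +kernel)) h
  · exact lF_good (T := T) (x := Lt.yi) (by decide) [Lt.x, Lt.yi, Lt.yi, Lt.yi, Lt.x, Lt.yi, Lt.yi, Lt.x, Lt.yi, Lt.yi, Lt.yi, Lt.x, Lt.yi, Lt.yi, Lt.x, Lt.yi, Lt.yi, Lt.yi, Lt.x, Lt.yi] (hole_rel hinv hr (by decide +kernel)) h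
theorem dp_yi_1_s (hinv : ∀ x, g (inv x) = (g x)⁻¹) (hr : ∀ r ∈ rels, (r.map g).prod = 1) (hH : ∀ r ∈ subs, (r.map g).prod ∈ H)
    (j u : ℕ) (hu : u < M) (h : dp_yi_1 j u = true) : Good (fa g) T MG M (cP g H) Lt.yi u := by
  unfold dp_yi_1 at h
  rcases brec_true h with h | h
  · exact lF1_good (T := T) (x := Lt.yi) (by decide) .y (hole_rel hinv hr (by decide +kernel)) h
  · exact dp_yi_0_s hinv hr hH j u hu h
theorem snd_yi (hinv : ∀ x, g (inv x) = (g x)⁻¹) (hr : ∀ r ∈ rels, (r.map g).prod = 1) (hH : ∀ r ∈ subs, (r.map g).prod ∈ H)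
    (j u : ℕ) (hu : u < M) (h : disp_yi j u = true) : Good (fa g) T MG M (cP g H) Lt.yi u := by
  unfold disp_yi at h
  rcases brec_true h with h | h
  · exact lPar_good (T := T) (x := Lt.yi) (x' := Lt.y) (by decide) rfl (inv_rel hinv _ _ rfl) h
  · rcases brec_true h with h | h
    · exact lDef_good (T := T) (x := Lt.yi) (by decide) rfl h
    · exact dp_yi_1_s hinv hr hH j u hu h
theorem snc_yi (hinv : ∀ x, g (inv x) = (g x)⁻¹) (hr : ∀ r ∈ rels, (r.map g).prod = 1) (hH : ∀ r ∈ subs, (r.map g).prod ∈ H)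
    (j u : ℕ) (hu : u < M) (h : chk_yi j u = true) : T Lt.yi u < A → Good (fa g) T MG M (cP g H) Lt.yi u := by
  intro hA
  unfold chk_yi at h
  cases hb : Nat.ble A (T_yi u) with
  | true => exact absurd (le_of_ble hb) (by show ¬ A ≤ T Lt.yi u; omega)
  | false => rw [hb] at h; exact snd_yi hinv hr hH j u hu h
theorem dM_0_s (hinv : ∀ x, g (inv x) = (g x)⁻¹) (hr : ∀ r ∈ rels, (r.map g).prod = 1) (j z1 z2 u : ℕ) (h : dM_0 j z1 z2 u = true) : GoodM (fa g) T MG M (cP g H) u := by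
  unfold dM_0 at h
  rcases brec_true h with h | h
  · exact mCo_good (T := T) (y := .yi) (by decide) h
  · rcases brec_true h with h | h
    · exact mCo_good (T := T) (y := .x) (by decide) h
    · rcases brec_true h with h | h
      · exact mCo_good (T := T) (y := .y) (by decide) h
      · exact mRel_good (T := T) (by decide) [Lt.yi, Lt.yi, Lt.yi, Lt.x, Lt.yi, Lt.yi, Lt.x, Lt.yi, Lt.yi, Lt.yi, Lt.x, Lt.yi, Lt.yi, Lt.x, Lt.yi, Lt.yi, Lt.yi, Lt.x, Lt.yi, Lt.yi] [Lt.x] (pair_rel hinv hr (by decide +kernel)) h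
theorem sndM (hinv : ∀ x, g (inv x) = (g x)⁻¹) (hr : ∀ r ∈ rels, (r.map g).prod = 1) (u : ℕ) (h : chkM u = true) :
    MG u < A → MG u % M < u ∧ GoodM (fa g) T MG M (cP g H) u := by
  intro hA
  unfold chkM at h
  cases hb : Nat.ble A (MG u) with
  | true => exact absurd (le_of_ble hb) (by omega)
  | false =>
    rw [hb] at h
    obtain ⟨h1, h2⟩ := band_eq_true.1 h
    exact ⟨le_of_ble h1, dM_0_s hinv hr _ _ _ _ h2⟩
theorem sndN (hinv : ∀ x, g (inv x) = (g x)⁻¹) (hr : ∀ r ∈ rels, (r.map g).prod = 1) (hH : ∀ r ∈ subs, (r.map g).prod ∈ H)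
    (u : ℕ) (hu : u < M) (h : chkP u = true) : (∀ x, T x u < A → Good (fa g) T MG M (cP g H) x u) ∧ (MG u < A → MG u % M < u ∧ GoodM (fa g) T MG M (cP g H) u) := by
  unfold chkP at h
  cases hb : Nat.ble M u with
  | true => exact absurd (le_of_ble hb) (by omega)
  | false =>
    rw [hb] at h
    change chkN u = true at h
    unfold chkN at h
    obtain ⟨h0, h⟩ := band_eq_true.1 h
    obtain ⟨h1, h⟩ := band_eq_true.1 h
    obtain ⟨h2, h⟩ := band_eq_true.1 h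
    refine ⟨?_, sndM hinv hr u h⟩
    intro x
    cases x
    · exact snc_x hinv hr hH _ u hu h0
    · exact snc_y hinv hr hH _ u hu h1
    · exact snc_yi hinv hr hH _ u hu h2
theorem final (hinv : ∀ x, g (inv x) = (g x)⁻¹) (hr : ∀ r ∈ rels, (r.map g).prod = 1) (hH : ∀ r ∈ subs, (r.map g).prod ∈ H)
    (hall : ∀ u, u < M → chkP u = true) : Sound (fa g) T MG M (cP g H) A := by
  have hn := fun u hu => sndN hinv hr hH u hu (hall u hu)
  exact sound_of_good (fun x u hu hx => (hn u hu).1 x hx) (fun u hu h => ((hn u hu).2 h).2)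
/-- goal words -/
def goals : List (List Lt) := [
  [.x, .y, .y, .y, .x, .y, .y, .y, .x, .y, .y, .y, .x, .y, .y, .y, .x, .y, .y, .y, .x, .y, .y, .y, .x, .y, .y, .y, .x, .y, .y, .y, .x, .y, .y, .y, .x, .y, .y, .y, .x, .y, .y, .y, .x, .y, .y, .y]]
end
end H2.TCHNC
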